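import Mathlib
import Cfsg.Prelude.Def_GeometricClasses
import Cfsg.Agent.Lib.Helper25.Elu.Defs

/-! Ladder SING (S5970, S5971): definitions. -/

set_option autoImplicit false

namespace Cfsg.Agent.Lib.Helper25.Sing

open Module Matrix

/-- `M` has an eigenspace of dimension at least two. -/
def HasBigEig {F : Type*} [Field F] {n : ℕ} (M : Matrix (Fin n) (Fin n) F) : Prop :=
  ∃ (b : F) (v w : Fin n → F), LinearIndependent F ![v, w] ∧ M *ᵥ v = b • v ∧ M *ᵥ w = b • w

end Cfsg.Agent.Lib.Helper25.Sing
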