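import Cfsg.Agent.Lib.Helper25.Sing.Defs

/-! Ladder SING, rung S1. -/

set_option autoImplicit false

namespace Cfsg.Agent.Lib.Helper25.Sing

open Module Matrix

variable {F : Type*} [Field F] {n : ℕ} {K : Subalgebra F (Matrix (Fin n) (Fin n) F)}

/-- `μ v = 0`, `v ≠ 0`, `μ ∈ K` ⇒ `μ = 0` (multiply by the inverse of `μ`). -/
theorem eq_zero_of_mulVec {k : ℕ} (hK : Cfsg.Geo.IsFieldSubalgebra k K) {μ : Matrix (Fin n) (Fin n) F}
    (hμ : μ ∈ K) {v : Fin n → F} (hv : v ≠ 0) (h : μ *ᵥ v = 0) : μ = 0 := by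
  sorry

/-- `V = K v`: the `F`-linear map `K → V`, `μ ↦ μ v` is injective between spaces of dimension `n`. -/
theorem exists_mulVec_eq (hK : Cfsg.Geo.IsFieldSubalgebra n K) {v : Fin n → F} (hv : v ≠ 0)
    (w : Fin n → F) : ∃ μ ∈ K, μ *ᵥ v = w := by
  sorry

end Cfsg.Agent.Lib.Helper25.Sing
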