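import Cfsg.Agent.Lib.Helper25.Sing.Defs

/-! Ladder SING, rung S2. -/

set_option autoImplicit false

namespace Cfsg.Agent.Lib.Helper25.Sing

open Module Matrix

variable {F : Type*} [Field F] {n : ℕ} {K : Subalgebra F (Matrix (Fin n) (Fin n) F)}

/-- `↥K` is a domain of prime dimension: `Subalgebra.isSimpleOrder_of_finrank_prime`
(apply it to `S.comap K.val`). -/
theorem sub_eq (hn : n.Prime) (hK : Cfsg.Geo.IsFieldSubalgebra n K)
    (S : Subalgebra F (Matrix (Fin n) (Fin n) F)) (hS : S ≤ K) {l : Matrix (Fin n) (Fin n) F}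
    (hl : l ∈ S) (hns : ∀ a : F, l ≠ a • 1) : S = K := by
  sorry

end Cfsg.Agent.Lib.Helper25.Sing
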