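import Cfsg.Agent.Lib.Helper25.Sing.Defs
import Cfsg.Agent.Lib.Helper25.Sing.S1
import Cfsg.Agent.Lib.Helper25.Sing.S2

/-! Ladder SING, rung S3. -/

set_option autoImplicit false

namespace Cfsg.Agent.Lib.Helper25.Sing

open Module Matrix

variable {F : Type*} [Field F] {n : ℕ} {K : Subalgebra F (Matrix (Fin n) (Fin n) F)}

/-- an element of `N(K)` with an eigenspace of dimension `≥ 2` is scalar. `w = l v` with `l ∈ K` not
scalar (S1). `l' = g l g⁻¹ ∈ K` and `b l' v = l' g v = g l v = g w = b l v`, `b ≠ 0`, so `l' = l` (S1).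
`S = {μ ∈ K | g μ = μ g}` is a subalgebra containing `l`, so `S = K` (S2); then
`g (μ v) = μ g v = b μ v` for all `μ ∈ K`, and `K v = V`. -/
theorem scalar_of_bigEig (hn : n.Prime) (hK : Cfsg.Geo.IsFieldSubalgebra n K) (g : GL (Fin n) F)
    (hg : g ∈ Cfsg.Geo.subalgebraNormalizer K) (h : HasBigEig (g : Matrix (Fin n) (Fin n) F)) :
    ∃ b : F, (g : Matrix (Fin n) (Fin n) F) = b • 1 := by
  sorry

end Cfsg.Agent.Lib.Helper25.Sing
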