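import Cfsg.Agent.Lib.Helper25.Sing.Defs

/-! Ladder SING, rung S3C. -/

set_option autoImplicit false

namespace Cfsg.Agent.Lib.Helper25.Sing

open Module Matrix

variable {F : Type*} [Field F] {n : ℕ} {K : Subalgebra F (Matrix (Fin n) (Fin n) F)}

theorem HasBigEig.conj {M : Matrix (Fin n) (Fin n) F} (h : HasBigEig M) (P : GL (Fin n) F) :
    HasBigEig (((P⁻¹ : GL (Fin n) F) : Matrix (Fin n) (Fin n) F) * M * (P : Matrix (Fin n) (Fin n) F)) := by
  sorry

end Cfsg.Agent.Lib.Helper25.Sing
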