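import Cfsg.Agent.Lib.Helper25.Sing.Defs
import Cfsg.Agent.Lib.Helper25.Elu.EXI
import Cfsg.Agent.Lib.Helper25.Elu.DET1

/-! Ladder SING, rung S4A. -/

set_option autoImplicit false

namespace Cfsg.Agent.Lib.Helper25.Sing

open Module Matrix

open Cfsg.Agent.Lib.Helper25.Elu in
/-- `T = T₀ ⊕ 1` with `T₀` from `Elu.exists_end_fixedfree` (EXI0; see also `EXI_transport`, `EXI_prod` in
Elu/EXI.lean), `det T = 1` by `Elu.det_eq_one_of_pow`; `ker (T - 1)` has dimension `n - c ≥ 2`; `T ≠` scalar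
since it has a nonzero fixed vector and is not `1`. -/
theorem exists_der_a {F : Type*} [Field F] [Fintype F] {p : ℕ} [Fact p.Prime] [CharP F p] {r : ℕ}
    [Fact r.Prime] (hrp : r ≠ p) (h2 : 2 ≤ ordq F r) {n : ℕ} (hn : ordq F r + 2 ≤ n) :
    ∃ x : Matrix.SpecialLinearGroup (Fin n) F,
      (x ^ r : Matrix.SpecialLinearGroup (Fin n) F) = 1 ∧
      (∀ z : F, (x : Matrix (Fin n) (Fin n) F) ≠ z • (1 : Matrix (Fin n) (Fin n) F)) ∧
      HasBigEig (x : Matrix (Fin n) (Fin n) F) := by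
  sorry

end Cfsg.Agent.Lib.Helper25.Sing
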