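import Cfsg.Agent.Lib.Helper25.Sing.Defs

/-! Ladder SING, rung S4B. -/

set_option autoImplicit false

namespace Cfsg.Agent.Lib.Helper25.Sing

open Module Matrix

/-- `x = diag (ζ, ζ⁻¹, 1, …, 1)` with `ζ` of order `r` in `Fˣ`. -/
theorem exists_der_b {F : Type*} [Field F] [Fintype F] {r : ℕ} [Fact r.Prime]
    (h1 : r ∣ Fintype.card F - 1) {n : ℕ} (hn : 4 ≤ n) :
    ∃ x : Matrix.SpecialLinearGroup (Fin n) F,
      (x ^ r : Matrix.SpecialLinearGroup (Fin n) F) = 1 ∧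
      (∀ z : F, (x : Matrix (Fin n) (Fin n) F) ≠ z • (1 : Matrix (Fin n) (Fin n) F)) ∧
      HasBigEig (x : Matrix (Fin n) (Fin n) F) := by
  sorry

end Cfsg.Agent.Lib.Helper25.Sing
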