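import Cfsg.Agent.Lib.Helper25.Sing.Defs
import Cfsg.Agent.Lib.Helper25.Sing.S1

/-! Ladder SING, rung S5A. -/

set_option autoImplicit false

namespace Cfsg.Agent.Lib.Helper25.Sing

open Module Matrix

variable {F : Type*} [Field F] {n : ℕ} {K : Subalgebra F (Matrix (Fin n) (Fin n) F)}

/-- the Frobenius map. Fix `v₀ ≠ 0`; `ev : K ≃ₗ[F] V`, `μ ↦ μ v₀` (S1); `φ (μ v₀) = μ^q v₀`.
`φ (μ u) = μ^q φ u`, so `φ μ φ⁻¹ = μ^q ∈ K` and (Frobenius is onto `K`) `φ⁻¹ K φ ≤ K`.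
`φ^n = 1` since `|K| = q^n`; `φ ≠ 1` since `X^q - X` has at most `q < q^n` roots in the field `K`.
(`IsField ↥K` from `hK`, `IsField.toField`, `FiniteField.pow_card`, `FiniteField.frobeniusAlgEquiv`…) -/
theorem exists_frob [Fintype F] (hn : 2 ≤ n) (hK : Cfsg.Geo.IsFieldSubalgebra n K) :
    ∃ φ : GL (Fin n) F, φ ∈ Cfsg.Geo.subalgebraNormalizer K ∧ φ ^ n = 1 ∧ φ ≠ 1 := by
  sorry

end Cfsg.Agent.Lib.Helper25.Sing
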