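import Cfsg.Agent.Lib.Helper25.Sing.Defs
import Cfsg.Agent.Lib.Helper25.Elu.SPLIT
import Cfsg.Agent.Lib.Helper25.Elu.DIVI

/-! Ladder SING, rung S5B. -/

set_option autoImplicit false

namespace Cfsg.Agent.Lib.Helper25.Sing

open Module Matrix

open Cfsg.Agent.Lib.Helper25.Elu in
/-- `C = ker (T - 1)`, `D` from `Elu.exists_split`. `(n-1) ∣ dim D` (`Elu.ordq_dvd_finrank`), `D ≠ 0`, so
`dim D = n - 1`, `dim C = 1`. `w = u + d`, `0 ≠ u ∈ C`, `0 ≠ d ∈ D`. `S = span {T^j w | j < n}` is invariant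
(`T^n = 1`); `dim S = dim (S ⊓ C) + dim (S ⊓ D)`. If `S ⊓ D = 0` then `S ≤ C` (dimension), `w ∈ C`, `d = 0`;
so `dim (S ⊓ D) = n - 1`; similarly if `S ⊓ C = 0` then `S ≤ D`, `u = 0`. Hence `S = ⊤`, and `n` vectors
spanning a space of dimension `n` are independent (`linearIndependent_of_top_le_span_of_card_eq_finrank`). -/
theorem exists_cyclic_vec {F : Type*} [Field F] [Fintype F] {p : ℕ} [Fact p.Prime] [CharP F p]
    {n : ℕ} [Fact n.Prime] (hnp : n ≠ p) (hn : 3 ≤ n) (hc : ordq F n = n - 1)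
    (T : End F (Fin n → F)) (hT : T ^ n = 1) (hT1 : T ≠ 1) :
    ∃ w : Fin n → F, LinearIndependent F (fun j : Fin n => (T ^ (j : ℕ)) w) := by
  sorry

end Cfsg.Agent.Lib.Helper25.Sing
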