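import Cfsg.Agent.Lib.Helper25.Sing.Defs

/-! Ladder SING, rung S5C. -/

set_option autoImplicit false

namespace Cfsg.Agent.Lib.Helper25.Sing

open Module Matrix

/-- map the basis `T'^j w'` to the basis `T^j w` (`basisOfLinearIndependentOfCardEqFinrank`, `Basis.equiv`). -/
theorem exists_conj_of_cyclic {F : Type*} [Field F] {n : ℕ} (hn : 0 < n) (T T' : End F (Fin n → F))
    (hT : T ^ n = 1) (hT' : T' ^ n = 1) {w w' : Fin n → F}
    (hw : LinearIndependent F (fun j : Fin n => (T ^ (j : ℕ)) w))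
    (hw' : LinearIndependent F (fun j : Fin n => (T' ^ (j : ℕ)) w')) :
    ∃ e : (Fin n → F) ≃ₗ[F] (Fin n → F), ∀ v, e (T' v) = T (e v) := by
  sorry

end Cfsg.Agent.Lib.Helper25.Sing
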