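import Cfsg.Agent.Lib.Helper25.Sing.Defs

/-! Ladder SING, rung S5E. -/

set_option autoImplicit false

namespace Cfsg.Agent.Lib.Helper25.Sing

open Module Matrix

variable {F : Type*} [Field F] {n : ℕ} {K : Subalgebra F (Matrix (Fin n) (Fin n) F)}

theorem mem_normalizer_of_smul {g g' : GL (Fin n) F} (hg : g ∈ Cfsg.Geo.subalgebraNormalizer K) {b : F}
    (hb : b ≠ 0) (h : (g' : Matrix (Fin n) (Fin n) F) = b • (g : Matrix (Fin n) (Fin n) F)) :
    g' ∈ Cfsg.Geo.subalgebraNormalizer K := by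
  sorry

end Cfsg.Agent.Lib.Helper25.Sing
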