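import Cfsg.Agent.Lib.Helper25.Sing.Defs
import Cfsg.Agent.Lib.Helper25.Sing.S5A
import Cfsg.Agent.Lib.Helper25.Sing.S5B
import Cfsg.Agent.Lib.Helper25.Sing.S5C
import Cfsg.Agent.Lib.Helper25.Sing.S5E
import Cfsg.Agent.Lib.Helper25.Elu.DET1
import Cfsg.Agent.Lib.Helper25.Elu.ORD

/-! Ladder SING, rung S5. -/

set_option autoImplicit false

namespace Cfsg.Agent.Lib.Helper25.Sing

open Module Matrix

variable {F : Type*} [Field F] {n : ℕ} {K : Subalgebra F (Matrix (Fin n) (Fin n) F)}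

open Cfsg.Agent.Lib.Helper25.Elu in
/-- `x^n = z = b^n` (`Elu.exists_pow_eq_of_not_dvd`, as `n ∤ q - 1`), `y = b⁻¹ x`, `y^n = 1 ≠ y`. S5A gives `φ`;
S5B for `toLin' y` and `toLin' φ`, S5C gives `e` with `e φ = y e`; `P₀ = toMatrix' e`, `P = a • P₀` with
`a^n = (det P₀)⁻¹`; `P⁻¹ x P = b • φ`, S5E. -/
theorem conj_into [Fintype F] {p : ℕ} [Fact p.Prime] [CharP F p] [Fact n.Prime] (hnp : n ≠ p)
    (hn : 3 ≤ n) (hc : ordq F n = n - 1) (hK : Cfsg.Geo.IsFieldSubalgebra n K)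
    (x : Matrix.SpecialLinearGroup (Fin n) F)
    (hx : ∃ z : F, ((x ^ n : Matrix.SpecialLinearGroup (Fin n) F) : Matrix (Fin n) (Fin n) F) =
      z • (1 : Matrix (Fin n) (Fin n) F))
    (hns : ∀ z : F, (x : Matrix (Fin n) (Fin n) F) ≠ z • (1 : Matrix (Fin n) (Fin n) F)) :
    ∃ P : Matrix.SpecialLinearGroup (Fin n) F, P⁻¹ * x * P ∈
      ((Cfsg.Geo.subalgebraNormalizer K).comap
        (Matrix.SpecialLinearGroup.toGL : Matrix.SpecialLinearGroup (Fin n) F →* GL (Fin n) F)) := by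
  sorry

end Cfsg.Agent.Lib.Helper25.Sing
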